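import Mathlib

/-! The algebra classifying homomorphisms into a base change of a finite projective algebra. -/

universe u

open TensorProduct

namespace Groth.Agent.HomSchLib

/-- A finite projective module has a finite dual basis. -/
theorem exists_dual_basis (R B : Type u) [CommRing R] [AddCommGroup B] [Module R B] [Module.Finite R B]
    [Module.Projective R B] :
    ∃ (n : ℕ) (β : Fin n → B) (ξ : Fin n → B →ₗ[R] R), ∀ b, ∑ i, ξ i b • β i = b := by
  classical
  obtain ⟨n, f, hf⟩ := Module.Finite.exists_fin' R B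
  obtain ⟨s, hs⟩ := Module.projective_lifting_property f LinearMap.id hf
  refine ⟨n, fun i => f (Pi.single i 1), fun i => LinearMap.proj i ∘ₗ s, fun b => ?_⟩
  have h1 : f (∑ i, s b i • Pi.single i 1) = b := by
    rw [← pi_eq_sum_univ' (s b)]
    exact LinearMap.congr_fun hs b
  simpa only [map_sum, map_smul, LinearMap.coe_comp, Function.comp_apply, LinearMap.proj_apply] using h1

variable {R B : Type u} [CommRing R] [CommRing B] [Algebra R B] {n : ℕ} (β : Fin n → B) (ξ : Fin n → B →ₗ[R] R)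

/-- Coordinates of elements of a base change. -/
noncomputable def coord (R' : Type u) [CommRing R'] [Algebra R R'] (i : Fin n) : R' ⊗[R] B →ₗ[R] R' :=
  (TensorProduct.rid R R').toLinearMap ∘ₗ (ξ i).lTensor R'

theorem sum_coord_tmul (h : ∀ b, ∑ i, ξ i b • β i = b) {R' : Type u} [CommRing R'] [Algebra R R'] (z : R' ⊗[R] B) :
    ∑ i, coord ξ R' i z ⊗ₜ[R] β i = z := by
  induction z using TensorProduct.induction_on with
  | zero => simp
  | tmul r b =>
    conv_rhs => rw [← h b, TensorProduct.tmul_sum]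
    refine Finset.sum_congr rfl fun i _ => ?_
    simp [coord, TensorProduct.smul_tmul]
  | add x y hx hy => simp [TensorProduct.add_tmul, Finset.sum_add_distrib, hx, hy]

theorem coord_map {R' R'' : Type u} [CommRing R'] [Algebra R R'] [CommRing R''] [Algebra R R''] (θ : R' →ₐ[R] R'')
    (i : Fin n) (z : R' ⊗[R] B) :
    coord ξ R'' i (Algebra.TensorProduct.map θ (AlgHom.id R B) z) = θ (coord ξ R' i z) := by
  induction z using TensorProduct.induction_on with
  | zero => simp
  | tmul r b => simp [coord]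
  | add x y hx hy => simp [map_add, hx, hy]

variable (σ : Type u) (G : Set (MvPolynomial σ R))

/-- The tautological substitution. -/
noncomputable def tautSubst : MvPolynomial σ R →ₐ[R] MvPolynomial (σ × Fin n) R ⊗[R] B :=
  MvPolynomial.aeval fun s => ∑ i, MvPolynomial.X (s, i) ⊗ₜ[R] β i

/-- The equations of the algebra of homomorphisms. -/
noncomputable def homIdeal : Ideal (MvPolynomial (σ × Fin n) R) :=
  Ideal.span ((Set.range fun p : G × Fin n => coord ξ _ p.2 (tautSubst β σ p.1.1)) ∪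
    Set.range fun p : σ × Fin n => MvPolynomial.X p - coord ξ _ p.2 (tautSubst β σ (MvPolynomial.X p.1)))

theorem fg_homIdeal [Finite σ] (hG : G.Finite) : (homIdeal β ξ σ G).FG := by
  haveI := hG.to_subtype
  exact Submodule.fg_span ((Set.finite_range _).union (Set.finite_range _))

/-- The algebra of homomorphisms. -/
abbrev HomAlg : Type u := MvPolynomial (σ × Fin n) R ⧸ homIdeal β ξ σ G

/-- The universal substitution. -/
noncomputable def univSubst : MvPolynomial σ R →ₐ[R] HomAlg β ξ σ G ⊗[R] B :=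
  (Algebra.TensorProduct.map (Ideal.Quotient.mkₐ R _) (AlgHom.id R B)).comp (tautSubst β σ)

variable {β ξ σ G}

theorem univSubst_eq_zero (h : ∀ b, ∑ i, ξ i b • β i = b) {g : MvPolynomial σ R} (hg : g ∈ Ideal.span G) :
    univSubst β ξ σ G g = 0 := by
  suffices Ideal.span G ≤ RingHom.ker (univSubst β ξ σ G) from this hg
  refine Ideal.span_le.mpr fun g hg => ?_
  show univSubst β ξ σ G g = 0
  rw [← sum_coord_tmul β ξ h (univSubst β ξ σ G g)]
  refine Finset.sum_eq_zero fun i _ => ?_
  rw [univSubst, AlgHom.comp_apply, coord_map, Ideal.Quotient.mkₐ_eq_mk,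
    (Ideal.Quotient.eq_zero_iff_mem (I := homIdeal β ξ σ G)
      (a := coord ξ _ i (tautSubst β σ g))).mpr (Ideal.subset_span (Set.mem_union_left _ ⟨(⟨g, hg⟩, i), rfl⟩)),
    TensorProduct.zero_tmul]

theorem existsUnique_univSubst (h : ∀ b, ∑ i, ξ i b • β i = b) {R' : Type u} [CommRing R'] [Algebra R R']
    (φ : MvPolynomial σ R →ₐ[R] R' ⊗[R] B) (hφ : ∀ g ∈ G, φ g = 0) :
    ∃! θ : HomAlg β ξ σ G →ₐ[R] R', (Algebra.TensorProduct.map θ (AlgHom.id R B)).comp (univSubst β ξ σ G) = φ := by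
  let θ₀ : MvPolynomial (σ × Fin n) R →ₐ[R] R' := MvPolynomial.aeval fun p => coord ξ R' p.2 (φ (MvPolynomial.X p.1))
  have h₀ : (Algebra.TensorProduct.map θ₀ (AlgHom.id R B)).comp (tautSubst β σ) = φ := by
    refine MvPolynomial.algHom_ext fun s => ?_
    simp [tautSubst, θ₀, sum_coord_tmul β ξ h]
  have hker : homIdeal β ξ σ G ≤ RingHom.ker θ₀ := by
    refine Ideal.span_le.mpr (Set.union_subset ?_ ?_)
    · rintro _ ⟨⟨⟨g, hg⟩, i⟩, rfl⟩
      show θ₀ (coord ξ _ i (tautSubst β σ g)) = 0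
      rw [← coord_map, ← AlgHom.comp_apply, h₀, hφ g hg, map_zero]
    · rintro _ ⟨⟨s, i⟩, rfl⟩
      show θ₀ (_ - _) = 0
      rw [map_sub, ← coord_map, ← AlgHom.comp_apply, h₀]
      simp [θ₀]
  refine ⟨Ideal.Quotient.liftₐ _ θ₀ hker, ?_, fun θ hθ => ?_⟩
  · show (Algebra.TensorProduct.map _ _).comp (univSubst β ξ σ G) = φ
    rw [univSubst, ← AlgHom.comp_assoc, ← Algebra.TensorProduct.map_comp, AlgHom.id_comp,
      show (Ideal.Quotient.liftₐ _ θ₀ hker).comp (Ideal.Quotient.mkₐ R _) = θ₀ from AlgHom.ext fun _ => rfl, h₀]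
  · refine Ideal.Quotient.algHom_ext R (MvPolynomial.algHom_ext fun p => ?_)
    show θ (Ideal.Quotient.mk _ (MvPolynomial.X p)) = θ₀ (MvPolynomial.X p)
    rw [(Ideal.Quotient.eq (I := homIdeal β ξ σ G) (x := MvPolynomial.X p)
      (y := coord ξ _ p.2 (tautSubst β σ (MvPolynomial.X p.1)))).mpr
        (Ideal.subset_span (Set.mem_union_right _ ⟨p, rfl⟩)), ← Ideal.Quotient.mkₐ_eq_mk R,
      ← coord_map, ← coord_map, ← AlgHom.comp_apply (Algebra.TensorProduct.map (Ideal.Quotient.mkₐ R _) _),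
      ← AlgHom.comp_apply]
    show coord ξ R' p.2 (((Algebra.TensorProduct.map θ (AlgHom.id R B)).comp (univSubst β ξ σ G)) _) = _
    rw [hθ]
    simp [θ₀]

/-- The classifying algebra of a presentation. -/
theorem exists_homAlg_presented (R B : Type u) [CommRing R] [CommRing B] [Algebra R B] [Module.Finite R B]
    [Module.Projective R B] (σ : Type u) (G : Set (MvPolynomial σ R)) :
    ∃ (A : Type u) (_ : CommRing A) (_ : Algebra R A) (Φ₀ : MvPolynomial σ R →ₐ[R] A ⊗[R] B),
      (∀ g ∈ Ideal.span G, Φ₀ g = 0) ∧ (Finite σ → Algebra.FiniteType R A) ∧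
      (Finite σ → G.Finite → Algebra.FinitePresentation R A) ∧
      ∀ (R' : Type u) [CommRing R'] [Algebra R R'] (φ : MvPolynomial σ R →ₐ[R] R' ⊗[R] B), (∀ g ∈ G, φ g = 0) →
        ∃! θ : A →ₐ[R] R', (Algebra.TensorProduct.map θ (AlgHom.id R B)).comp Φ₀ = φ := by
  obtain ⟨n, β, ξ, h⟩ := exists_dual_basis R B
  exact ⟨HomAlg β ξ σ G, inferInstance, inferInstance, univSubst β ξ σ G, fun g hg => univSubst_eq_zero h hg,
    fun _ => inferInstance, fun _ hG => Algebra.FinitePresentation.quotient (fg_homIdeal β ξ σ G hG),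
    fun R' _ _ φ hφ => existsUnique_univSubst h φ hφ⟩

/-- Homomorphisms into base changes of a finite projective algebra are classified by an algebra. -/
theorem exists_homAlg (R B C : Type u) [CommRing R] [CommRing B] [Algebra R B] [Module.Finite R B]
    [Module.Projective R B] [CommRing C] [Algebra R C] :
    ∃ (A : Type u) (_ : CommRing A) (_ : Algebra R A) (Φ : C →ₐ[R] A ⊗[R] B),
      (Algebra.FiniteType R C → Algebra.FiniteType R A) ∧
      (Algebra.FinitePresentation R C → Algebra.FinitePresentation R A) ∧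
      ∀ (R' : Type u) [CommRing R'] [Algebra R R'] (φ : C →ₐ[R] R' ⊗[R] B),
        ∃! θ : A →ₐ[R] R', (Algebra.TensorProduct.map θ (AlgHom.id R B)).comp Φ = φ := by
  classical
  obtain ⟨σ, G, π, hπ, hker, hft, hfp⟩ : ∃ (σ : Type u) (G : Set (MvPolynomial σ R)) (π : MvPolynomial σ R →ₐ[R] C),
      Function.Surjective π ∧ RingHom.ker π = Ideal.span G ∧ (Algebra.FiniteType R C → Finite σ) ∧
      (Algebra.FinitePresentation R C → Finite σ ∧ G.Finite) := by
    by_cases hfp : Algebra.FinitePresentation R C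
    · obtain ⟨ι, _, π, hπ, hker⟩ := Algebra.FinitePresentation.iff_quotient_mvPolynomial'.mp hfp
      obtain ⟨G, hG⟩ := hker
      exact ⟨ι, G, π, hπ, hG.symm, fun _ => inferInstance, fun _ => ⟨inferInstance, G.finite_toSet⟩⟩
    by_cases hft : Algebra.FiniteType R C
    · obtain ⟨ι, _, π, hπ⟩ := Algebra.FiniteType.iff_quotient_mvPolynomial'.mp hft
      exact ⟨ι, (RingHom.ker π : Ideal _), π, hπ, (Ideal.span_eq _).symm, fun _ => inferInstance, fun h => (hfp h).elim⟩
    exact ⟨C, (RingHom.ker (MvPolynomial.aeval (R := R) (id : C → C)) : Ideal _), MvPolynomial.aeval id,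
      fun c => ⟨MvPolynomial.X c, MvPolynomial.aeval_X _ _⟩, (Ideal.span_eq _).symm, fun h => (hft h).elim,
      fun h => (hfp h).elim⟩
  obtain ⟨A, _, _, Φ₀, hzero, hAft, hAfp, hu⟩ := exists_homAlg_presented R B σ G
  let Φ : C →ₐ[R] A ⊗[R] B := AlgHom.liftOfSurjective π hπ Φ₀
    (show RingHom.ker π ≤ RingHom.ker Φ₀ from fun g hg => RingHom.mem_ker.mpr (hzero g (hker ▸ hg)))
  have hΦ : Φ.comp π = Φ₀ := AlgHom.liftOfSurjective_comp π hπ _ _
  refine ⟨A, inferInstance, inferInstance, Φ, fun hC => hAft (hft hC), fun hC => hAfp (hfp hC).1 (hfp hC).2,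
    fun R' _ _ φ => ?_⟩
  have key := hu R' (φ.comp π) fun g hg => by
    rw [AlgHom.comp_apply, show π g = 0 from (hker.ge (Ideal.subset_span hg)), map_zero]
  refine (existsUnique_congr fun θ => ?_).mp key
  rw [← hΦ, ← AlgHom.comp_assoc]
  exact ⟨fun e => AlgHom.ext fun c => by obtain ⟨p, rfl⟩ := hπ c; exact AlgHom.congr_fun e p, fun e => by rw [e]⟩

end Groth.Agent.HomSchLib
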