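import Mathlib

/-! Families of morphisms parametrised by schemes: locality of representability. -/

universe u

open CategoryTheory Limits AlgebraicGeometry MonoidalCategory CartesianMonoidalCategory

namespace Groth.Agent.HomSchLib

variable {S : Scheme.{u}}

/-- `ev` classifies morphisms `X ⊗ T ⟶ Y` for the test objects in `Q`. -/
def IsRep (X Y : Over S) (Q : Over S → Prop) {M : Over S} (ev : X ⊗ M ⟶ Y) : Prop :=
  ∀ T, Q T → ∀ φ : X ⊗ T ⟶ Y, ∃! v : T ⟶ M, (X ◁ v) ≫ ev = φ

/-- The structure map lands in `U`. -/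
def InOpen (U : S.Opens) (T : Over S) : Prop := ∀ t : T.left, T.hom t ∈ U

theorem InOpen.of_hom {U : S.Opens} {T T' : Over S} (h : InOpen U T) (w : T' ⟶ T) : InOpen U T' := fun t => by
  rw [← Over.w w, Scheme.Hom.comp_apply]
  exact h _

theorem isOpenImmersion_whiskerLeft (X : Over S) {T T' : Over S} (w : T' ⟶ T) [IsOpenImmersion w.left] :
    IsOpenImmersion (X ◁ w).left := by
  rw [Over.whiskerLeft_left]
  infer_instance

theorem range_whiskerLeft (X : Over S) {T T' : Over S} (w : T' ⟶ T) :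
    Set.range (X ◁ w).left = (snd X T).left ⁻¹' Set.range w.left := by
  rw [Over.whiskerLeft_left]
  refine (Scheme.Pullback.range_map _ _ _ _ _ _ _ _ _).trans ?_
  ext z
  exact ⟨fun h => h.2, fun h => ⟨⟨_, rfl⟩, h⟩⟩

/-- Morphisms out of a product agree if they agree on an open cover of the second factor. -/
theorem hom_ext_tensor {X Y T : Over S} {φ₁ φ₂ : X ⊗ T ⟶ Y}
    (h : ∀ x : T.left, ∃ (T' : Over S) (w : T' ⟶ T), IsOpenImmersion w.left ∧ x ∈ Set.range w.left ∧
      (X ◁ w) ≫ φ₁ = (X ◁ w) ≫ φ₂) : φ₁ = φ₂ := by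
  choose T' w hw hx he using h
  refine Over.OverMorphism.ext (Scheme.Cover.hom_ext
    (Scheme.Cover.mkOfCovers T.left (fun x => (X ⊗ T' x).left) (fun x => (X ◁ w x).left)
      (fun z => ⟨(snd X T).left z, (range_whiskerLeft X (w ((snd X T).left z))).ge (hx _)⟩)
      (fun x => haveI := hw x; isOpenImmersion_whiskerLeft X (w x))) _ _ fun x => ?_)
  exact congrArg CommaMorphism.left (he x)

/-- Representability for test objects covering those of a class gives representability for the class. -/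
theorem isRep_of_local {X Y : Over S} {P Q : Over S → Prop} {M : Over S} {ev : X ⊗ M ⟶ Y}
    (hP : ∀ (T T' : Over S), P T → (T' ⟶ T) → P T')
    (hQ : ∀ T, P T → ∀ x : T.left, ∃ (T' : Over S) (w : T' ⟶ T), IsOpenImmersion w.left ∧ x ∈ Set.range w.left ∧ Q T')
    (h : IsRep X Y Q ev) : IsRep X Y P ev := by
  have huniq : ∀ T, P T → ∀ v₁ v₂ : T ⟶ M, (X ◁ v₁) ≫ ev = (X ◁ v₂) ≫ ev → v₁ = v₂ := by
    intro T hT v₁ v₂ he
    choose T' w hw hx hq using hQ T hT
    refine Over.OverMorphism.ext (Scheme.Cover.hom_ext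
      (Scheme.Cover.mkOfCovers T.left (fun x => (T' x).left) (fun x => (w x).left) (fun x => ⟨x, hx x⟩) hw) _ _
      fun x => ?_)
    refine congrArg CommaMorphism.left ((h _ (hq x) ((X ◁ w x) ≫ (X ◁ v₁) ≫ ev)).unique
      (y₁ := w x ≫ v₁) (y₂ := w x ≫ v₂) ?_ ?_)
    · rw [whiskerLeft_comp, Category.assoc]
    · rw [whiskerLeft_comp, Category.assoc, he]
  intro T hT φ
  choose T' w hw hx hq using hQ T hT
  choose v hv using fun x => (h _ (hq x) ((X ◁ w x) ≫ φ)).exists
  let 𝒰 : T.left.OpenCover :=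
    Scheme.Cover.mkOfCovers T.left (fun x => (T' x).left) (fun x => (w x).left) (fun x => ⟨x, hx x⟩) hw
  let vl : T.left ⟶ M.left := Scheme.Cover.glueMorphisms 𝒰 (fun x => (v x).left) fun x y => by
    let P' : Over S := Over.mk (pullback.fst (w x).left (w y).left ≫ (T' x).hom)
    let p₁ : P' ⟶ T' x := Over.homMk (pullback.fst (w x).left (w y).left) rfl
    let p₂ : P' ⟶ T' y := Over.homMk (pullback.snd (w x).left (w y).left) (by
      show _ = pullback.fst (w x).left (w y).left ≫ (T' x).hom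
      rw [← Over.w (w x), ← Over.w (w y), pullback.condition_assoc])
    have hp : p₁ ≫ w x = p₂ ≫ w y := Over.OverMorphism.ext pullback.condition
    refine congrArg CommaMorphism.left (huniq P' (hP T P' hT (p₁ ≫ w x)) (p₁ ≫ v x) (p₂ ≫ v y) ?_)
    rw [whiskerLeft_comp, whiskerLeft_comp, Category.assoc, Category.assoc, hv, hv, ← Category.assoc,
      ← Category.assoc, ← whiskerLeft_comp, ← whiskerLeft_comp, hp]
  have hvl : ∀ x, (w x).left ≫ vl = (v x).left := fun x => Scheme.Cover.ι_glueMorphisms 𝒰 _ _ x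
  let V : T ⟶ M := Over.homMk vl (Scheme.Cover.hom_ext 𝒰 _ _ fun x => by
    show (w x).left ≫ vl ≫ M.hom = (w x).left ≫ T.hom
    rw [← Category.assoc, hvl, Over.w (v x), Over.w (w x)])
  have hV : ∀ x, w x ≫ V = v x := fun x => Over.OverMorphism.ext (hvl x)
  have hφ : (X ◁ V) ≫ ev = φ := hom_ext_tensor fun x =>
    ⟨T' x, w x, hw x, hx x, by rw [← Category.assoc, ← whiskerLeft_comp, hV, hv]⟩
  exact ⟨V, hφ, fun V' hV' => huniq T hT V' V (hV'.trans hφ.symm)⟩

end Groth.Agent.HomSchLib
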