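import Groth.Agent.HomSchLib.Alg
import Groth.Agent.HomSchLib.Local
import Groth.Agent.GrpFieldLib.JetChart

/-! Homomorphisms from a finite flat scheme to an affine scheme over an affine open of the base. -/

universe u

open CategoryTheory Limits AlgebraicGeometry MonoidalCategory CartesianMonoidalCategory
open TensorProduct

namespace Groth.Agent.HomSchLib

open Groth.Agent.GrpFieldLib.Jet (sp sp_comp sp_injective exists_ringHom)

set_option backward.isDefEq.respectTransparency false

variable {S : Scheme.{u}}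

/-- The square of an affine morphism over an affine open. -/
theorem isPullback_fromSpec {A : Scheme.{u}} (f : A ⟶ S) [IsAffineHom f] {U : S.Opens} (hU : IsAffineOpen U) :
    IsPullback (Spec.map (f.app U)) (hU.preimage f).fromSpec hU.fromSpec f := by
  refine IsOpenImmersion.isPullback _ _ _ _ ?_ ?_
  · rw [Scheme.Hom.app_eq_appLE, IsAffineOpen.SpecMap_appLE_fromSpec]
  · rw [IsAffineOpen.opensRange_fromSpec, IsAffineOpen.opensRange_fromSpec]

/-- Ring maps over a base ring from maps of spectra. -/
theorem exists_algHom {R A B : Type u} [CommRing R] [CommRing A] [CommRing B] [Algebra R A] [Algebra R B]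
    (f : Spec (CommRingCat.of R) ⟶ S) [Mono f] (g : Spec (CommRingCat.of B) ⟶ Spec (CommRingCat.of A))
    (hg : g ≫ sp (algebraMap R A) ≫ f = sp (algebraMap R B) ≫ f) : ∃ φ : A →ₐ[R] B, sp φ.toRingHom = g := by
  obtain ⟨φ, rfl⟩ := exists_ringHom g
  refine ⟨{ φ with commutes' := RingHom.congr_fun (sp_injective (f := φ.comp (algebraMap R A)) ?_) }, rfl⟩
  rw [sp_comp, ← cancel_mono f, Category.assoc]
  exact hg

section Affine

variable {X Y : Over S} {R B C : Type u} [CommRing R] [CommRing B] [CommRing C] [Algebra R B] [Algebra R C]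
  {f : Spec (CommRingCat.of R) ⟶ S} [IsOpenImmersion f] {iX : Spec (CommRingCat.of B) ⟶ X.left}
  {iY : Spec (CommRingCat.of C) ⟶ Y.left} [IsOpenImmersion iY]

/-- An affine test object. -/
noncomputable abbrev testObj (f : Spec (CommRingCat.of R) ⟶ S) (R' : Type u) [CommRing R'] [Algebra R R'] : Over S :=
  Over.mk (sp (algebraMap R R') ≫ f)

theorem isPullback_test (hX : IsPullback (sp (algebraMap R B)) iX f X.hom) (R' : Type u) [CommRing R'] [Algebra R R'] :
    IsPullback (sp (Algebra.TensorProduct.includeRight : B →ₐ[R] R' ⊗[R] B).toRingHom ≫ iX)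
      (sp (algebraMap R' (R' ⊗[R] B))) X.hom (testObj f R').hom :=
  ((isPullback_SpecMap_of_isPushout _ _ _ _ (CommRingCat.isPushout_tensorProduct R R' B)).paste_vert hX).flip

/-- The product with an affine test object. -/
noncomputable def testIso (hX : IsPullback (sp (algebraMap R B)) iX f X.hom) (R' : Type u) [CommRing R'] [Algebra R R'] :
    Spec (CommRingCat.of (R' ⊗[R] B)) ≅ (X ⊗ testObj f R').left :=
  (isPullback_test hX R').isoPullback

theorem testIso_natural (hX : IsPullback (sp (algebraMap R B)) iX f X.hom) {R' R'' : Type u} [CommRing R']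
    [Algebra R R'] [CommRing R''] [Algebra R R''] (θ : R' →ₐ[R] R'') (w : testObj f R'' ⟶ testObj f R')
    (hw : w.left = sp θ.toRingHom) :
    (testIso hX R'').hom ≫ (X ◁ w).left =
      sp (Algebra.TensorProduct.map θ (AlgHom.id R B)).toRingHom ≫ (testIso hX R').hom := by
  rw [Over.whiskerLeft_left]
  apply pullback.hom_ext
  · erw [Category.assoc, Category.assoc, pullback.lift_fst, Category.comp_id]
    refine ((isPullback_test hX R'').isoPullback_hom_fst).trans ?_
    erw [(isPullback_test hX R').isoPullback_hom_fst]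
    rw [← Category.assoc, ← sp_comp]
    refine congrArg (fun m => sp m ≫ iX) (RingHom.ext fun b => ?_)
    simp
  · erw [Category.assoc, Category.assoc, pullback.lift_snd]
    rw [hw]
    refine ((isPullback_test hX R'').isoPullback_hom_snd_assoc _).trans ?_
    erw [(isPullback_test hX R').isoPullback_hom_snd]
    rw [← sp_comp, ← sp_comp]
    refine congrArg sp (RingHom.ext fun b => ?_)
    simp

/-- Morphisms from a product with an affine test object come from algebra maps. -/
theorem exists_algHom_of_test (hX : IsPullback (sp (algebraMap R B)) iX f X.hom)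
    (hY : IsPullback (sp (algebraMap R C)) iY f Y.hom) (R' : Type u) [CommRing R'] [Algebra R R']
    (φ : X ⊗ testObj f R' ⟶ Y) :
    ∃ χ : C →ₐ[R] R' ⊗[R] B, (testIso hX R').hom ≫ φ.left = sp χ.toRingHom ≫ iY := by
  have hq : ((testIso hX R').hom ≫ φ.left) ≫ Y.hom =
      (sp (algebraMap R' (R' ⊗[R] B)) ≫ sp (algebraMap R R')) ≫ f := by
    rw [Category.assoc, Over.w φ]
    show (testIso hX R').hom ≫ pullback.fst X.hom (testObj f R').hom ≫ X.hom = _
    rw [pullback.condition]
    erw [(isPullback_test hX R').isoPullback_hom_snd_assoc]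
    rw [Category.assoc]
    rfl
  obtain ⟨χ, hχ⟩ := exists_algHom (R := R) (A := C) (B := R' ⊗[R] B) f
    (hY.lift (sp (algebraMap R' (R' ⊗[R] B)) ≫ sp (algebraMap R R')) ((testIso hX R').hom ≫ φ.left) hq.symm)
    (by rw [hY.lift_fst_assoc, ← sp_comp, ← IsScalarTower.algebraMap_eq])
  exact ⟨χ, by rw [hχ, hY.lift_snd]⟩

/-- An algebra of homomorphisms gives representability on affine test objects. -/
theorem isRep_testObj (hX : IsPullback (sp (algebraMap R B)) iX f X.hom)
    (hY : IsPullback (sp (algebraMap R C)) iY f Y.hom) {A : Type u} [CommRing A] [Algebra R A]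
    (Φ : C →ₐ[R] A ⊗[R] B)
    (hΦ : ∀ (R' : Type u) [CommRing R'] [Algebra R R'] (φ : C →ₐ[R] R' ⊗[R] B),
      ∃! θ : A →ₐ[R] R', (Algebra.TensorProduct.map θ (AlgHom.id R B)).comp Φ = φ) :
    ∃ ev : X ⊗ testObj f A ⟶ Y,
      IsRep X Y (fun T => ∃ (R' : Type u) (_ : CommRing R') (_ : Algebra R R'), T = testObj f R') ev := by
  let evl : (X ⊗ testObj f A).left ⟶ Y.left := (testIso hX A).inv ≫ sp Φ.toRingHom ≫ iY
  let ev : X ⊗ testObj f A ⟶ Y := Over.homMk evl (by
    rw [← cancel_epi (testIso hX A).hom]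
    simp only [evl, Category.assoc, Iso.hom_inv_id_assoc]
    rw [← hY.w, ← Category.assoc (sp Φ.toRingHom), ← sp_comp]
    refine (congrArg (fun m => sp m ≫ f) Φ.comp_algebraMap).trans ?_
    show _ = (testIso hX A).hom ≫ pullback.fst X.hom (testObj f A).hom ≫ X.hom
    rw [pullback.condition]
    erw [(isPullback_test hX A).isoPullback_hom_snd_assoc]
    show _ = sp (algebraMap A (A ⊗[R] B)) ≫ sp (algebraMap R A) ≫ f
    rw [← Category.assoc, ← sp_comp, ← IsScalarTower.algebraMap_eq])
  refine ⟨ev, ?_⟩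
  rintro T ⟨R', _, _, rfl⟩ φ
  obtain ⟨χ, hχ⟩ := exists_algHom_of_test hX hY R' φ
  have key : ∀ (θ : A →ₐ[R] R') (v : testObj f R' ⟶ testObj f A), v.left = sp θ.toRingHom →
      ((X ◁ v) ≫ ev = φ ↔ (Algebra.TensorProduct.map θ (AlgHom.id R B)).comp Φ = χ) := fun θ v hv => by
    have e1 : (testIso hX R').hom ≫ ((X ◁ v) ≫ ev).left =
        sp ((Algebra.TensorProduct.map θ (AlgHom.id R B)).comp Φ).toRingHom ≫ iY := by
      rw [Over.comp_left, ← Category.assoc, testIso_natural hX θ v hv]
      show (_ ≫ _) ≫ evl = _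
      simp only [evl, Category.assoc, Iso.hom_inv_id_assoc]
      rw [← Category.assoc, ← sp_comp]
      rfl
    refine ⟨fun h => ?_, fun h => Over.OverMorphism.ext ((cancel_epi (testIso hX R').hom).mp ?_)⟩
    · rw [h, hχ, cancel_mono iY] at e1
      exact AlgHom.ext fun c => (RingHom.congr_fun (sp_injective e1) c).symm
    · rw [e1, h, hχ]
  obtain ⟨θ, hθ, hu⟩ := hΦ R' χ
  let v : testObj f R' ⟶ testObj f A := Over.homMk (sp θ.toRingHom) (by
    show sp θ.toRingHom ≫ sp (algebraMap R A) ≫ f = _
    rw [← Category.assoc, ← sp_comp]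
    exact congrArg (fun m => sp m ≫ f) θ.comp_algebraMap)
  refine ⟨v, (key θ v rfl).mpr hθ, fun v' hv' => ?_⟩
  obtain ⟨θ', hθ'⟩ := exists_algHom (R := R) f v'.left (Over.w v')
  obtain rfl := hu θ' ((key θ' v' hθ'.symm).mp hv')
  exact Over.OverMorphism.ext hθ'.symm

end Affine

/-- Representability over an affine open of the base. -/
theorem exists_isRep_inOpen (X Y : Over S) [IsFinite X.hom] [Flat X.hom] [LocallyOfFinitePresentation X.hom]
    [IsAffineHom Y.hom] {U : S.Opens} (hU : IsAffineOpen U) :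
    ∃ (M : Over S) (ev : X ⊗ M ⟶ Y), InOpen U M ∧ IsAffine M.left ∧
      (LocallyOfFiniteType Y.hom → LocallyOfFiniteType M.hom) ∧
      (LocallyOfFinitePresentation Y.hom → LocallyOfFinitePresentation M.hom) ∧ IsRep X Y (InOpen U) ev := by
  let R := Γ(S, U); let B := Γ(X.left, X.hom ⁻¹ᵁ U); let C := Γ(Y.left, Y.hom ⁻¹ᵁ U)
  letI : Algebra R B := (X.hom.app U).hom.toAlgebra
  letI : Algebra R C := (Y.hom.app U).hom.toAlgebra
  have hfl : (X.hom.app U).hom.Flat := by
    rw [Scheme.Hom.app_eq_appLE]
    exact HasRingHomProperty.appLE @Flat X.hom inferInstance ⟨U, hU⟩ ⟨_, hU.preimage X.hom⟩ _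
  have hfp : (X.hom.app U).hom.FinitePresentation := by
    rw [Scheme.Hom.app_eq_appLE]
    exact HasRingHomProperty.appLE @LocallyOfFinitePresentation X.hom inferInstance ⟨U, hU⟩ ⟨_, hU.preimage X.hom⟩ _
  haveI : Module.Finite R B := X.hom.finite_app U hU
  haveI : Algebra.FinitePresentation R B := hfp
  haveI : Module.Flat R B := hfl
  haveI : Module.FinitePresentation R B := Module.FinitePresentation.of_finite_of_finitePresentation _ _
  haveI : Module.Projective R B := Module.Flat.projective_of_finitePresentation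
  obtain ⟨A, _, _, Φ, hft, hfpA, hu⟩ := exists_homAlg R B C
  obtain ⟨ev, hev⟩ := isRep_testObj (X := X) (Y := Y) (iX := (hU.preimage X.hom).fromSpec)
    (iY := (hU.preimage Y.hom).fromSpec) (isPullback_fromSpec X.hom hU) (isPullback_fromSpec Y.hom hU) Φ hu
  refine ⟨testObj hU.fromSpec A, ev, fun t => ?_, inferInstanceAs (IsAffine (Spec (CommRingCat.of A))), fun hY => ?_,
    fun hY => ?_, ?_⟩
  · show (sp (algebraMap R A) ≫ hU.fromSpec) t ∈ U
    rw [Scheme.Hom.comp_apply]
    exact hU.range_fromSpec.le ⟨_, rfl⟩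
  · haveI : Algebra.FiniteType R C := by
      rw [← RingHom.finiteType_algebraMap]
      show (Y.hom.app U).hom.FiniteType
      rw [Scheme.Hom.app_eq_appLE]
      exact HasRingHomProperty.appLE @LocallyOfFiniteType Y.hom inferInstance ⟨U, hU⟩ ⟨_, hU.preimage Y.hom⟩ _
    haveI := hft inferInstance
    haveI : LocallyOfFiniteType (sp (algebraMap R A)) :=
      (HasRingHomProperty.Spec_iff (P := @LocallyOfFiniteType)).mpr (RingHom.finiteType_algebraMap.mpr inferInstance)
    show LocallyOfFiniteType (sp (algebraMap R A) ≫ hU.fromSpec)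
    infer_instance
  · haveI : Algebra.FinitePresentation R C := by
      rw [← RingHom.finitePresentation_algebraMap]
      show (Y.hom.app U).hom.FinitePresentation
      rw [Scheme.Hom.app_eq_appLE]
      exact HasRingHomProperty.appLE @LocallyOfFinitePresentation Y.hom inferInstance ⟨U, hU⟩ ⟨_, hU.preimage Y.hom⟩ _
    haveI := hfpA inferInstance
    haveI : LocallyOfFinitePresentation (sp (algebraMap R A)) :=
      (HasRingHomProperty.Spec_iff (P := @LocallyOfFinitePresentation)).mpr
        (RingHom.finitePresentation_algebraMap.mpr inferInstance)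
    show LocallyOfFinitePresentation (sp (algebraMap R A) ≫ hU.fromSpec)
    infer_instance
  · refine isRep_of_local (fun T T' h w => h.of_hom w) (fun T hT x => ?_) hev
    obtain ⟨W, hW, hxW, -⟩ := exists_isAffineOpen_mem_and_subset (show x ∈ (⊤ : T.left.Opens) from trivial)
    have hr : Set.range (hW.fromSpec ≫ T.hom) ⊆ Set.range hU.fromSpec := by
      rintro _ ⟨z, rfl⟩
      rw [Scheme.Hom.comp_apply]
      exact hU.range_fromSpec.ge (hT _)
    obtain ⟨ρ, hρ⟩ := exists_ringHom (A := R) (B := Γ(T.left, W))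
      (IsOpenImmersion.lift hU.fromSpec (hW.fromSpec ≫ T.hom) hr)
    letI : Algebra R Γ(T.left, W) := ρ.toAlgebra
    let w : testObj hU.fromSpec Γ(T.left, W) ⟶ T := Over.homMk hW.fromSpec (by
      show hW.fromSpec ≫ T.hom = sp ρ ≫ hU.fromSpec
      rw [hρ, IsOpenImmersion.lift_fac])
    exact ⟨_, w, inferInstanceAs (IsOpenImmersion hW.fromSpec),
      hW.range_fromSpec.ge hxW, Γ(T.left, W), inferInstance, inferInstance, rfl⟩

end Groth.Agent.HomSchLib
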