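import Groth.Agent.HomSchLib.Base

/-! The scheme of morphisms from a finite flat scheme to an affine scheme over an arbitrary base. -/

universe u

open CategoryTheory Limits AlgebraicGeometry MonoidalCategory CartesianMonoidalCategory

namespace Groth.Agent.HomSchLib

set_option backward.isDefEq.respectTransparency false
set_option backward.isDefEq.respectTransparency.types false

variable {S : Scheme.{u}} {X Y : Over S}

/-- Chosen representing objects over the affine opens. -/
structure Pieces (X Y : Over S) where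
  /-- The pieces. -/
  M : S.affineOpens → Over S
  /-- The evaluations. -/
  ev : ∀ U, X ⊗ M U ⟶ Y
  inOpen : ∀ U, InOpen U.1 (M U)
  rep : ∀ U, IsRep X Y (InOpen U.1) (ev U)

variable (p : Pieces X Y)

theorem Pieces.inOpen_le {U V : S.affineOpens} (h : U ≤ V) : InOpen V.1 (p.M U) :=
  fun t => h (p.inOpen U t)

/-- Transition morphisms. -/
noncomputable def Pieces.tr {U V : S.affineOpens} (h : U ≤ V) : p.M U ⟶ p.M V :=
  ((p.rep V) (p.M U) (p.inOpen_le h) (p.ev U)).exists.choose

theorem Pieces.tr_ev {U V : S.affineOpens} (h : U ≤ V) : (X ◁ p.tr h) ≫ p.ev V = p.ev U :=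
  ((p.rep V) (p.M U) (p.inOpen_le h) (p.ev U)).exists.choose_spec

theorem Pieces.hom_ext {U : S.affineOpens} {T : Over S} (hT : InOpen U.1 T) {v₁ v₂ : T ⟶ p.M U}
    (h : (X ◁ v₁) ≫ p.ev U = (X ◁ v₂) ≫ p.ev U) : v₁ = v₂ :=
  (p.rep U T hT _).unique h rfl

theorem Pieces.isPullback_tr {U V : S.affineOpens} (h : U ≤ V) :
    IsPullback (IsOpenImmersion.lift U.1.ι (p.M U).hom
        (by rintro _ ⟨t, rfl⟩; rw [Scheme.Opens.range_ι]; exact p.inOpen U t)) (p.tr h).left
      (S.homOfLE h) (IsOpenImmersion.lift V.1.ι (p.M V).hom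
        (by rintro _ ⟨t, rfl⟩; rw [Scheme.Opens.range_ι]; exact p.inOpen V t)) := by
  let O : (p.M V).left.Opens := (p.M V).hom ⁻¹ᵁ U.1
  let P : Over S := Over.mk (O.ι ≫ (p.M V).hom)
  let incl : P ⟶ p.M V := Over.homMk O.ι rfl
  have hP : InOpen U.1 P := fun t => by
    show (O.ι ≫ (p.M V).hom) t ∈ U.1
    rw [Scheme.Hom.comp_apply]
    exact t.2
  obtain ⟨v, hv, -⟩ := p.rep U P hP ((X ◁ incl) ≫ p.ev V)
  have h1 : v ≫ p.tr h = incl := p.hom_ext (fun t => h (hP t)) (by rw [whiskerLeft_comp, Category.assoc, p.tr_ev, hv])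
  let back : p.M U ⟶ P := Over.homMk (IsOpenImmersion.lift O.ι (p.tr h).left (by
      rintro _ ⟨t, rfl⟩
      refine (Scheme.Opens.range_ι O).ge ?_
      show ((p.tr h).left ≫ (p.M V).hom) t ∈ U.1
      rw [Over.w]
      exact p.inOpen U t)) (by
    show _ ≫ O.ι ≫ (p.M V).hom = _
    rw [IsOpenImmersion.lift_fac_assoc, Over.w])
  have h2 : back ≫ incl = p.tr h := Over.OverMorphism.ext (IsOpenImmersion.lift_fac _ _ _)
  have h3 : back ≫ v = 𝟙 (p.M U) := p.hom_ext (p.inOpen U) (by
    rw [whiskerLeft_comp, Category.assoc, hv, ← Category.assoc, ← whiskerLeft_comp, h2, p.tr_ev,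
      whiskerLeft_id, Category.id_comp])
  have h4 : v ≫ back = 𝟙 P := by
    refine Over.OverMorphism.ext ((cancel_mono O.ι).mp ?_)
    show (v.left ≫ back.left) ≫ incl.left = 𝟙 _ ≫ incl.left
    rw [Category.assoc, ← Over.comp_left, h2, ← Over.comp_left, h1, Category.id_comp]
  let e : p.M U ≅ P := ⟨back, v, h3, h4⟩
  have hiso : IsIso back.left := ⟨v.left, by rw [← Over.comp_left, h3]; rfl, by rw [← Over.comp_left, h4]; rfl⟩
  haveI : IsOpenImmersion (p.tr h).left := by
    rw [← h2]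
    exact inferInstanceAs (IsOpenImmersion (back.left ≫ O.ι))
  refine IsOpenImmersion.isPullback _ _ _ _ ?_ ?_
  · rw [← cancel_mono V.1.ι, Category.assoc, Category.assoc, Scheme.homOfLE_ι, IsOpenImmersion.lift_fac,
      IsOpenImmersion.lift_fac, Over.w]
  · apply TopologicalSpace.Opens.ext
    ext x
    simp only [Scheme.Hom.coe_opensRange, TopologicalSpace.Opens.map_coe, Set.mem_preimage]
    constructor
    · rintro ⟨y, hy⟩
      have hx : x ∈ O := by
        show (p.M V).hom x ∈ U.1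
        have e := congrArg V.1.ι hy
        rw [← Scheme.Hom.comp_apply, ← Scheme.Hom.comp_apply, Scheme.homOfLE_ι, IsOpenImmersion.lift_fac] at e
        rw [← e]
        exact y.2
      refine ⟨v.left ⟨x, hx⟩, ?_⟩
      show (v.left ≫ (p.tr h).left) ⟨x, hx⟩ = x
      rw [← Over.comp_left, h1]
      rfl
    · rintro ⟨y, rfl⟩
      refine ⟨⟨(p.M U).hom y, p.inOpen U y⟩, V.1.ι.injective ?_⟩
      rw [← Scheme.Hom.comp_apply, ← Scheme.Hom.comp_apply, ← Scheme.Hom.comp_apply, Scheme.homOfLE_ι,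
        IsOpenImmersion.lift_fac, Over.w]
      rfl

theorem Pieces.tr_refl (U : S.affineOpens) : p.tr (le_refl U) = 𝟙 _ :=
  p.hom_ext (p.inOpen U) (by rw [p.tr_ev, whiskerLeft_id, Category.id_comp])

theorem Pieces.tr_trans {U V W : S.affineOpens} (h : U ≤ V) (h' : V ≤ W) :
    p.tr h ≫ p.tr h' = p.tr (h.trans h') :=
  p.hom_ext (p.inOpen_le (h.trans h')) (by rw [whiskerLeft_comp, Category.assoc, p.tr_ev, p.tr_ev, p.tr_ev])

/-- The gluing datum. -/
noncomputable def Pieces.glueData : (S.directedAffineCover).RelativeGluingData where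
  functor :=
    { obj := fun U => (p.M U).left
      map := fun h => (p.tr (leOfHom h)).left
      map_id := fun U => by rw [show p.tr (leOfHom (𝟙 U)) = 𝟙 _ from p.tr_refl U]; rfl
      map_comp := fun f g => by rw [← Over.comp_left, p.tr_trans] }
  natTrans :=
    { app := fun U => IsOpenImmersion.lift (Scheme.Opens.ι (show S.affineOpens from U).1) (p.M U).hom
        (by rintro _ ⟨t, rfl⟩; exact (Scheme.Opens.range_ι _).ge (p.inOpen U t))
      naturality := fun U V h => (p.isPullback_tr (leOfHom h)).w.symm }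
  equifibered := fun _ _ h => (p.isPullback_tr (leOfHom h)).flip

/-- The glued scheme. -/
noncomputable def Pieces.total : Over S := Over.mk p.glueData.toBase

theorem Pieces.ι_hom (U : S.affineOpens) : colimit.ι p.glueData.functor U ≫ p.glueData.toBase = (p.M U).hom :=
  (p.glueData.ι_toBase U).trans (IsOpenImmersion.lift_fac _ _ _)

/-- The inclusions. -/
noncomputable def Pieces.incl (U : S.affineOpens) : p.M U ⟶ p.total :=
  Over.homMk (colimit.ι p.glueData.functor U) (p.ι_hom U)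

instance (U : S.affineOpens) : IsOpenImmersion (p.incl U).left :=
  inferInstanceAs (IsOpenImmersion (p.glueData.cover.f U))

theorem Pieces.range_incl (U : S.affineOpens) :
    Set.range (p.incl U).left = p.total.hom ⁻¹' (U.1 : Set S) := by
  refine (p.glueData.preimage_toBase_eq_range_ι U).symm.trans ?_
  show p.glueData.toBase ⁻¹' Set.range (Scheme.Opens.ι U.1) = _
  rw [Scheme.Opens.range_ι]
  rfl

theorem Pieces.tr_incl {U V : S.affineOpens} (h : U ≤ V) : p.tr h ≫ p.incl V = p.incl U :=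
  Over.OverMorphism.ext (colimit.w p.glueData.functor (homOfLE h))

theorem exists_pieces_total (p : Pieces X Y) :
    ∃ ev : X ⊗ p.total ⟶ Y, (∀ U, (X ◁ p.incl U) ≫ ev = p.ev U) ∧ IsRep X Y (fun _ => True) ev := by
  classical
  have hmem : ∀ z : (p.total).left, ∃ U : S.affineOpens, z ∈ Set.range (p.incl U).left := fun z => by
    obtain ⟨U, hU, hz, -⟩ := exists_isAffineOpen_mem_and_subset (show p.total.hom z ∈ (⊤ : S.Opens) from trivial)
    exact ⟨⟨U, hU⟩, (p.range_incl ⟨U, hU⟩).ge hz⟩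
  choose c hc using hmem
  let 𝒰 : (X ⊗ p.total).left.OpenCover :=
    Scheme.Cover.mkOfCovers S.affineOpens (fun U => (X ⊗ p.M U).left) (fun U => (X ◁ p.incl U).left)
      (fun z => ⟨c ((snd X p.total).left z), (range_whiskerLeft X (p.incl _)).ge (hc _)⟩)
      (fun U => isOpenImmersion_whiskerLeft X (p.incl U))
  haveI : ∀ U, IsOpenImmersion (X ◁ p.incl U).left := fun U => isOpenImmersion_whiskerLeft X (p.incl U)
  have compat : ∀ U V : S.affineOpens,
      pullback.fst (X ◁ p.incl U).left (X ◁ p.incl V).left ≫ (p.ev U).left =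
        pullback.snd (X ◁ p.incl U).left (X ◁ p.incl V).left ≫ (p.ev V).left := by
    intro U V
    let π := pullback.fst (X ◁ p.incl U).left (X ◁ p.incl V).left ≫ (X ◁ p.incl U).left
    have hz : ∀ z, ∃ W : S.affineOpens, W ≤ U ∧ W ≤ V ∧ π z ∈ Set.range (X ◁ p.incl W).left := by
      intro z
      have hr : ∀ W : S.affineOpens, ∀ w, w ∈ Set.range (X ◁ p.incl W).left ↔ (X ⊗ p.total).hom w ∈ W.1 := by
        intro W w
        rw [range_whiskerLeft, Set.mem_preimage, p.range_incl, Set.mem_preimage, ← Scheme.Hom.comp_apply, Over.w]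
        rfl
      have h1 : (X ⊗ p.total).hom (π z) ∈ U.1 := (hr U _).mp ⟨_, rfl⟩
      have h2 : (X ⊗ p.total).hom (π z) ∈ V.1 :=
        (hr V _).mp ⟨(pullback.snd (X ◁ p.incl U).left (X ◁ p.incl V).left) z, by
          rw [← Scheme.Hom.comp_apply, ← pullback.condition]⟩
      obtain ⟨W, hW, hzW, hWle⟩ := exists_isAffineOpen_mem_and_subset (U := U.1 ⊓ V.1) ⟨h1, h2⟩
      exact ⟨⟨W, hW⟩, fun _ hx => (hWle hx).1, fun _ hx => (hWle hx).2, (hr ⟨W, hW⟩ _).mpr hzW⟩
    choose W hWU hWV hW using hz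
    refine Scheme.Cover.hom_ext
      (Scheme.Cover.mkOfCovers _ (fun z => pullback π (X ◁ p.incl (W z)).left) (fun z => pullback.fst _ _)
        (fun z => ⟨z, (Scheme.Pullback.range_fst (f := π) (g := (X ◁ p.incl (W z)).left)).ge (hW z)⟩) (fun z => inferInstance)) _ _ fun z => ?_
    have hU : pullback.fst π (X ◁ p.incl (W z)).left ≫ pullback.fst (X ◁ p.incl U).left (X ◁ p.incl V).left =
        pullback.snd π (X ◁ p.incl (W z)).left ≫ (X ◁ p.tr (hWU z)).left := by
      rw [← cancel_mono (X ◁ p.incl U).left, Category.assoc, Category.assoc, ← Over.comp_left, ← whiskerLeft_comp,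
        p.tr_incl]
      exact pullback.condition
    have hV : pullback.fst π (X ◁ p.incl (W z)).left ≫ pullback.snd (X ◁ p.incl U).left (X ◁ p.incl V).left =
        pullback.snd π (X ◁ p.incl (W z)).left ≫ (X ◁ p.tr (hWV z)).left := by
      rw [← cancel_mono (X ◁ p.incl V).left, Category.assoc, Category.assoc, ← Over.comp_left, ← whiskerLeft_comp,
        p.tr_incl, ← pullback.condition]
      exact pullback.condition
    show pullback.fst π (X ◁ p.incl (W z)).left ≫ _ = pullback.fst π (X ◁ p.incl (W z)).left ≫ _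
    rw [reassoc_of% hU, reassoc_of% hV, ← Over.comp_left, ← Over.comp_left, p.tr_ev, p.tr_ev]
  let evl : (X ⊗ p.total).left ⟶ Y.left := 𝒰.glueMorphisms (fun U => (p.ev U).left) compat
  have hevl : ∀ U, (X ◁ p.incl U).left ≫ evl = (p.ev U).left := fun U => 𝒰.ι_glueMorphisms _ compat U
  let ev : X ⊗ p.total ⟶ Y := Over.homMk evl (𝒰.hom_ext _ _ fun U => by
    show (X ◁ p.incl U).left ≫ evl ≫ Y.hom = (X ◁ p.incl U).left ≫ _
    rw [reassoc_of% hevl U, Over.w, Over.w])
  have hev : ∀ U, (X ◁ p.incl U) ≫ ev = p.ev U := fun U => Over.OverMorphism.ext (hevl U)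
  refine ⟨ev, hev, isRep_of_local (Q := fun T => ∃ U : S.affineOpens, InOpen U.1 T) (fun _ _ _ _ => trivial)
    (fun T _ x => ?_) ?_⟩
  · obtain ⟨U, hU, hz, -⟩ := exists_isAffineOpen_mem_and_subset (show T.hom x ∈ (⊤ : S.Opens) from trivial)
    refine ⟨Over.mk ((T.hom ⁻¹ᵁ U).ι ≫ T.hom), Over.homMk (T.hom ⁻¹ᵁ U).ι rfl,
      inferInstanceAs (IsOpenImmersion (T.hom ⁻¹ᵁ U).ι), (Scheme.Opens.range_ι _).ge hz, ⟨U, hU⟩, fun t => ?_⟩
    show ((T.hom ⁻¹ᵁ U).ι ≫ T.hom) t ∈ U
    rw [Scheme.Hom.comp_apply]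
    exact t.2
  · rintro T ⟨U, hT⟩ φ
    obtain ⟨v, hv, hu⟩ := p.rep U T hT φ
    refine ⟨v ≫ p.incl U, ?_, fun v' hv' => ?_⟩
    · show (X ◁ (v ≫ p.incl U)) ≫ ev = φ
      rw [whiskerLeft_comp, Category.assoc, hev, hv]
    · have hr : Set.range v'.left ⊆ Set.range (p.incl U).left := by
        rintro _ ⟨t, rfl⟩
        rw [p.range_incl, Set.mem_preimage, ← Scheme.Hom.comp_apply, Over.w]
        exact hT t
      let w : T ⟶ p.M U := Over.homMk (IsOpenImmersion.lift (p.incl U).left v'.left hr) (by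
        rw [← Over.w (p.incl U), IsOpenImmersion.lift_fac_assoc, Over.w])
      have hw : w ≫ p.incl U = v' := Over.OverMorphism.ext (IsOpenImmersion.lift_fac _ _ _)
      have hwv : (X ◁ w) ≫ p.ev U = φ := by rw [← hev U, ← Category.assoc, ← whiskerLeft_comp, hw]; exact hv'
      rw [← hw, hu w hwv]

/-- The scheme of morphisms from a finite flat scheme to an affine scheme. -/
theorem exists_homScheme (X Y : Over S) [IsFinite X.hom] [Flat X.hom] [LocallyOfFinitePresentation X.hom]
    [IsAffineHom Y.hom] :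
    ∃ (M : Over S) (ev : X ⊗ M ⟶ Y), IsAffineHom M.hom ∧
      (LocallyOfFiniteType Y.hom → LocallyOfFiniteType M.hom) ∧
      (LocallyOfFinitePresentation Y.hom → LocallyOfFinitePresentation M.hom) ∧
      ∀ (T : Over S) (φ : X ⊗ T ⟶ Y), ∃! v : T ⟶ M, (X ◁ v) ≫ ev = φ := by
  choose M ev hin haff hft hfp hrep using fun U : S.affineOpens => exists_isRep_inOpen X Y U.2
  let p : Pieces X Y := ⟨M, ev, hin, hrep⟩
  obtain ⟨e, -, hre⟩ := exists_pieces_total p
  let 𝒱 : p.total.left.OpenCover := p.glueData.cover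
  refine ⟨p.total, e, ⟨?_⟩, fun hY => ?_, fun hY => ?_,
    fun T φ => hre T trivial φ⟩
  · intro U hU
    have : p.total.hom ⁻¹ᵁ U = (p.incl ⟨U, hU⟩).left.opensRange :=
      TopologicalSpace.Opens.ext (p.range_incl ⟨U, hU⟩).symm
    rw [this]
    haveI : IsAffine (p.M ⟨U, hU⟩).left := haff _
    exact isAffineOpen_opensRange _
  · refine IsZariskiLocalAtSource.of_openCover (P := @LocallyOfFiniteType) 𝒱 fun U => ?_
    rw [show 𝒱.f U ≫ p.total.hom = (p.M U).hom from p.ι_hom U]
    exact hft U hY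
  · refine IsZariskiLocalAtSource.of_openCover (P := @LocallyOfFinitePresentation) 𝒱 fun U => ?_
    rw [show 𝒱.f U ≫ p.total.hom = (p.M U).hom from p.ι_hom U]
    exact hfp U hY

end Groth.Agent.HomSchLib
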