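import Groth.Agent.HomSchLib.Glue
import Groth.Agent.AlgSpPts.Sep
import Groth.Prelude.Def_AutFam

/-! The scheme of homomorphisms from a finite flat group to an affine group. -/

universe u

open CategoryTheory Limits AlgebraicGeometry MonoidalCategory CartesianMonoidalCategory MonObj

namespace Groth.Agent.HomSchLib

variable {S : Scheme.{u}}

theorem isHomFamily_iff (G G' : Over S) [GrpObj G] [GrpObj G'] {T : Over S} (φ : G ⊗ T ⟶ G') :
    AutFam.IsHomFamily G G' φ ↔ (μ[G] ▷ T) ≫ φ = ((fst G G ▷ T) ≫ φ) * ((snd G G ▷ T) ≫ φ) := by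
  constructor
  · intro h
    have h' := h ((G ⊗ G) ⊗ T) (fst _ _ ≫ fst G G) (fst _ _ ≫ snd G G) (snd _ _)
    convert! h' using 1
    · congr 1
      ext <;> simp [Hom.mul_def, ← comp_lift]
  · intro h X g₁ g₂ t
    have h' := congrArg (lift (lift g₁ g₂) t ≫ ·) h
    simp only [MonObj.comp_mul, lift_whiskerRight_assoc, lift_fst, lift_snd] at h'
    rw [Hom.mul_def]
    exact h'

/-- The scheme of homomorphisms from a finite flat group to an affine group. -/
theorem exists_homGrpScheme (G G' : Over S) [GrpObj G] [GrpObj G'] [IsFinite G.hom] [Flat G.hom]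
    [LocallyOfFinitePresentation G.hom] [IsAffineHom G'.hom] :
    ∃ (A : Over S) (υ : G ⊗ A ⟶ G'), AutFam.RepresentsHom G G' A υ ∧ IsAffineHom A.hom ∧
      (LocallyOfFiniteType G'.hom → LocallyOfFiniteType A.hom) ∧
      (LocallyOfFinitePresentation G'.hom → LocallyOfFinitePresentation A.hom) := by
  obtain ⟨M, ev, hMa, hMft, hMfp, hM⟩ := exists_homScheme G G'
  haveI : IsFinite (G ⊗ G).hom := inferInstanceAs (IsFinite (pullback.fst G.hom G.hom ≫ G.hom))
  haveI : Flat (G ⊗ G).hom := inferInstanceAs (Flat (pullback.fst G.hom G.hom ≫ G.hom))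
  haveI : LocallyOfFinitePresentation (G ⊗ G).hom :=
    inferInstanceAs (LocallyOfFinitePresentation (pullback.fst G.hom G.hom ≫ G.hom))
  obtain ⟨N, ev₂, hNa, hNft, -, hN⟩ := exists_homScheme (G ⊗ G) G'
  obtain ⟨a, ha, -⟩ := hN M ((μ[G] ▷ M) ≫ ev)
  obtain ⟨b, hb, -⟩ := hN M (((fst G G ▷ M) ≫ ev) * ((snd G G ▷ M) ≫ ev))
  have hfam : ∀ {T : Over S} (m : T ⟶ M), AutFam.IsHomFamily G G' ((G ◁ m) ≫ ev) ↔ m ≫ a = m ≫ b := by
    intro T m
    have hsw : ∀ {Z : Over S} (q : Z ⟶ G), (Z ◁ m) ≫ (q ▷ M) ≫ ev = (q ▷ T) ≫ (G ◁ m) ≫ ev :=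
      fun q => whisker_exchange_assoc q m ev
    have e₁ : ((G ⊗ G) ◁ (m ≫ a)) ≫ ev₂ = (μ[G] ▷ T) ≫ (G ◁ m) ≫ ev := by
      rw [whiskerLeft_comp, Category.assoc, ha, hsw]
    have e₂ : ((G ⊗ G) ◁ (m ≫ b)) ≫ ev₂ =
        ((fst G G ▷ T) ≫ (G ◁ m) ≫ ev) * ((snd G G ▷ T) ≫ (G ◁ m) ≫ ev) := by
      rw [whiskerLeft_comp, Category.assoc, hb, MonObj.comp_mul, hsw, hsw]
    rw [isHomFamily_iff, ← e₁, ← e₂]
    exact ⟨fun h => (hN T _).unique h rfl, fun h => by rw [h]⟩
  let L := pullback.lift a.left b.left ((Over.w a).trans (Over.w b).symm)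
  let e := pullback.fst L (pullback.diagonal N.hom)
  haveI : IsClosedImmersion (pullback.diagonal N.hom) := inferInstance
  haveI : IsClosedImmersion e := inferInstanceAs (IsClosedImmersion (pullback.fst L (pullback.diagonal N.hom)))
  let incl : Over.mk (e ≫ M.hom) ⟶ M := Over.homMk e rfl
  have hfac : ∀ {T : Over S} (m : T ⟶ M), (∃ z : T ⟶ Over.mk (e ≫ M.hom), z ≫ incl = m) ↔ m ≫ a = m ≫ b := by
    intro T m
    have hι : incl ≫ a = incl ≫ b := by
      have h := pullback.condition (f := L) (g := pullback.diagonal N.hom)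
      apply Over.OverMorphism.ext
      show e ≫ a.left = e ≫ b.left
      have h₁ := congrArg (· ≫ pullback.fst N.hom N.hom) h
      have h₂ := congrArg (· ≫ pullback.snd N.hom N.hom) h
      simp only [L, Category.assoc, pullback.lift_fst, pullback.lift_snd, pullback.diagonal_fst,
        pullback.diagonal_snd] at h₁ h₂
      exact h₁.trans h₂.symm
    refine ⟨fun ⟨z, hz⟩ => by rw [← hz, Category.assoc, Category.assoc, hι], fun h => ?_⟩
    let zl : T.left ⟶ pullback L (pullback.diagonal N.hom) := pullback.lift m.left (m.left ≫ a.left) (by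
      apply pullback.hom_ext
      · simp only [L, Category.assoc, pullback.lift_fst, pullback.diagonal_fst, Category.comp_id]
      · simp only [L, Category.assoc, pullback.lift_snd, pullback.diagonal_snd, Category.comp_id]
        exact (congrArg CommaMorphism.left h).symm)
    exact ⟨Over.homMk zl (by show zl ≫ e ≫ M.hom = _; rw [pullback.lift_fst_assoc, Over.w]),
      Over.OverMorphism.ext (pullback.lift_fst _ _ _)⟩
  refine ⟨Over.mk (e ≫ M.hom), (G ◁ incl) ≫ ev, ⟨(hfam incl).mpr ((hfac incl).mp ⟨𝟙 _, Category.id_comp _⟩),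
    fun T φ hφ => ?_⟩, inferInstanceAs (IsAffineHom (e ≫ M.hom)), fun hG' => ?_, fun hG' => ?_⟩
  · obtain ⟨m, hm, hu⟩ := hM T φ
    obtain ⟨z, hz⟩ := (hfac m).mpr ((hfam m).mp (by rw [hm]; exact hφ))
    refine ⟨z, ?_, fun z' hz' => ?_⟩
    · show (G ◁ z) ≫ (G ◁ incl) ≫ ev = φ
      rw [← Category.assoc, ← whiskerLeft_comp, hz, hm]
    · have hz'' : (G ◁ (z' ≫ incl)) ≫ ev = φ := by rw [whiskerLeft_comp, Category.assoc]; exact hz'
      have := hu (z' ≫ incl) hz''
      exact Over.OverMorphism.ext ((cancel_mono e).mp (congrArg CommaMorphism.left (this.trans hz.symm)))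
  · haveI := hMft hG'
    exact inferInstanceAs (LocallyOfFiniteType (e ≫ M.hom))
  · haveI := hMfp hG'
    haveI : LocallyOfFiniteType N.hom := hNft inferInstance
    haveI : LocallyOfFinitePresentation (pullback.diagonal N.hom ≫ pullback.fst N.hom N.hom) := by
      rw [pullback.diagonal_fst]; infer_instance
    haveI := AlgSpPts.locallyOfFinitePresentation_of_comp (pullback.diagonal N.hom) (pullback.fst N.hom N.hom)
    haveI : LocallyOfFinitePresentation e := MorphismProperty.pullback_fst _ _ inferInstance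
    exact inferInstanceAs (LocallyOfFinitePresentation (e ≫ M.hom))

end Groth.Agent.HomSchLib
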